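import Cfsg.Agent.H998.StrP.Arith
import Cfsg.Agent.CpAutJThree.Row

/-!
# `J₃` has no strongly `3`-embedded subgroup (task 810, for S2120; helper809)
-/

set_option autoImplicit false

namespace Cfsg.Agent.H809.StrP.JThree

open Cfsg Subgroup Cfsg.Agent.H998.StrP

variable {Γ : Type*} [Group Γ]

theorem nosp_j3_3 (h : Cfsg.Spor.IsoJ3 Γ) : NoSP 3 Γ := by
  have : Fact (Nat.Prime 3) := ⟨Nat.prime_three⟩
  obtain ⟨hcard, -⟩ := Cfsg.Agent.CpAutJThree.base h
  have hfin : Finite Γ := Nat.finite_of_card_ne_zero (by rw [hcard]; norm_num)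
  obtain ⟨c, hc, -, hC⟩ := Cfsg.Agent.CpAutJThree.exc h
  intro H hH
  have hZ : IsPGroup 3 ↥(zpowers c) := by
    rw [IsPGroup.iff_card]
    exact ⟨1, by rw [Nat.card_zpowers, hc, pow_one]⟩
  have hne : zpowers c ≠ ⊥ := by
    rw [Ne, zpowers_eq_bot]
    rintro rfl
    rw [orderOf_one] at hc
    omega
  have h1 := card_normalizer_dvd hH hZ hne
  have h2 : centralizer ({c} : Set Γ) ≤ normalizer ((zpowers c : Subgroup Γ) : Set Γ) := by
    intro g hg
    have hg' : g * c = c * g := mem_centralizer_singleton_iff.1 hg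
    refine Subgroup.centralizer_le_normalizer _ (mem_centralizer_iff.2 ?_)
    rintro _ ⟨k, rfl⟩
    exact ((show Commute c g from hg'.symm).zpow_left k).eq
  have h3 : 1080 ∣ Nat.card H := by
    rw [← hC]
    exact (card_dvd_of_le h2).trans h1
  refine contra (a := 5) (b := 2) hH h3 [(2, 4), (17, 1), (19, 1)] ?_ (by norm_num) ?_ ?_ (by decide +kernel)
  · intro q hq
    simp only [List.mem_cons, List.not_mem_nil, or_false] at hq
    rcases hq with rfl | rfl | rfl <;> norm_num
  · rw [hcard]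
    norm_num
  · rw [hcard]
    decide +kernel

end Cfsg.Agent.H809.StrP.JThree
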