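import Cfsg.Agent.H809.StrP.Cert
import Cfsg.Agent.H998.StrP.Arith
import Cfsg.Agent.H994.TwoGen.M12
import Cfsg.Agent.H994.TwoGen.M22
import Cfsg.Agent.Schreier.MTwelve
import Cfsg.Agent.SporadicA.MathieuRecog

/-!
# `M₁₂`, `M₂₂`, `M₂₃` have no strongly `3`-embedded subgroup (task 809, for S2120; helper809)
-/

set_option autoImplicit false

namespace Cfsg.Agent.H809.StrP.Mathieu

open Cfsg Subgroup Cfsg.Agent.H998.StrP Cfsg.Agent.H809.StrP
open Cfsg.Agent.J4.M24Hom (fn)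

/-! ### `M₁₂` -/

namespace T12

/-- first element of order 3 -/
def y1 : Equiv.Perm GolayPt where
  toFun := fn [16, 4, 3, 18, 8, 22, 12, 5, 1, 6, 15, 17, 9, 0, 23, 19, 13, 21, 2, 10, 14, 11, 7, 20]
  invFun := fn [13, 8, 18, 2, 1, 7, 9, 22, 4, 12, 19, 21, 6, 16, 20, 10, 0, 11, 3, 15, 23, 17, 5, 14]
  left_inv := by decide +kernel
  right_inv := by decide +kernel

/-- second element of order 3 -/
def y2 : Equiv.Perm GolayPt where
  toFun := fn [12, 4, 16, 13, 8, 17, 3, 11, 1, 2, 22, 15, 18, 6, 23, 7, 9, 19, 0, 5, 14, 10, 21, 20]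
  invFun := fn [18, 8, 9, 6, 1, 19, 13, 15, 4, 16, 21, 7, 0, 3, 20, 11, 2, 5, 12, 17, 23, 22, 10, 14]
  left_inv := by decide +kernel
  right_inv := by decide +kernel

/-- commutes with `y1` -/
def a : Equiv.Perm GolayPt where
  toFun := fn [9, 2, 4, 8, 3, 20, 13, 23, 18, 16, 21, 19, 0, 12, 7, 11, 6, 10, 1, 17, 22, 15, 14, 5]
  invFun := fn [12, 18, 1, 4, 2, 23, 16, 14, 3, 0, 17, 15, 13, 6, 22, 21, 9, 19, 8, 11, 5, 10, 20, 7]
  left_inv := by decide +kernel
  right_inv := by decide +kernel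

/-- commutes with `y2` -/
def b : Equiv.Perm GolayPt where
  toFun := fn [8, 6, 16, 18, 3, 22, 12, 11, 13, 2, 20, 15, 1, 0, 5, 7, 9, 21, 4, 10, 19, 23, 14, 17]
  invFun := fn [13, 12, 9, 4, 18, 14, 1, 15, 0, 16, 19, 7, 6, 8, 22, 11, 2, 23, 3, 20, 10, 17, 5, 21]
  left_inv := by decide +kernel
  right_inv := by decide +kernel

open Cfsg.Agent.SporadicStructure.M11InvPerms Cfsg.Agent.MTwelveType.SylowModel

theorem y1_mem : y1 ∈ Spor.M12 :=
  MTwelveType.SylowModel.mem_M12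
    (SporadicA.GolayWalk.mem_M24_of_table y1 [16, 4, 3, 18, 8, 22, 12, 5, 1, 6, 15, 17, 9, 0, 23, 19, 13, 21, 2, 10, 14, 11, 7, 20] rfl (by decide +kernel) (by decide +kernel))
    (by decide +kernel)

theorem y2_mem : y2 ∈ Spor.M12 :=
  MTwelveType.SylowModel.mem_M12
    (SporadicA.GolayWalk.mem_M24_of_table y2 [12, 4, 16, 13, 8, 17, 3, 11, 1, 2, 22, 15, 18, 6, 23, 7, 9, 19, 0, 5, 14, 10, 21, 20] rfl (by decide +kernel) (by decide +kernel))
    (by decide +kernel)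

theorem a_mem : a ∈ Spor.M12 :=
  MTwelveType.SylowModel.mem_M12
    (SporadicA.GolayWalk.mem_M24_of_table a [9, 2, 4, 8, 3, 20, 13, 23, 18, 16, 21, 19, 0, 12, 7, 11, 6, 10, 1, 17, 22, 15, 14, 5] rfl (by decide +kernel) (by decide +kernel))
    (by decide +kernel)

theorem b_mem : b ∈ Spor.M12 :=
  MTwelveType.SylowModel.mem_M12
    (SporadicA.GolayWalk.mem_M24_of_table b [8, 6, 16, 18, 3, 22, 12, 11, 13, 2, 20, 15, 1, 0, 5, 7, 9, 21, 4, 10, 19, 23, 14, 17] rfl (by decide +kernel) (by decide +kernel))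
    (by decide +kernel)

/-- the letters -/
def ltr : ℕ → Equiv.Perm GolayPt
  | 0 => a
  | 1 => b
  | 2 => a⁻¹
  | _ => b⁻¹

/-- the two elements of order 3 -/
def yy : Bool → Equiv.Perm GolayPt := fun t => if t then y2 else y1

/-- the generators -/
def aa : Bool → Equiv.Perm GolayPt := fun t => if t then b else a

theorem ltr_mem (i : ℕ) : ltr i ∈ closure (Set.range aa) := by
  have ha : a ∈ closure (Set.range aa) := subset_closure ⟨false, rfl⟩
  have hb : b ∈ closure (Set.range aa) := subset_closure ⟨true, rfl⟩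
  match i with
  | 0 => exact ha
  | 1 => exact hb
  | 2 => exact inv_mem ha
  | _ + 3 => exact inv_mem hb

theorem X_eq : H994.TwoGen.M12.X = wv ltr [2, 1] := by
  apply Equiv.ext
  decide +kernel

theorem Y_eq : H994.TwoGen.M12.Y = wv ltr [3, 0, 1, 2, 3, 0, 3, 0, 3, 2, 2, 3, 0, 0] := by
  apply Equiv.ext
  decide +kernel

theorem noSP : NoSP 3 ↥Spor.M12 := by
  have : Fact (Nat.Prime 3) := ⟨Nat.prime_three⟩
  have := Cfsg.Agent.Schreier.MTwelve.isSimpleGroup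
  refine noSP_of_cert H994.TwoGen.M12.closure_eq yy aa false ?_ ?_ ?_ ?_ ?_ ?_ ?_
  · rintro (_ | _)
    · exact y1_mem
    · exact y2_mem
  · rintro (_ | _)
    · exact a_mem
    · exact b_mem
  · rintro (_ | _) <;> (apply Equiv.ext; decide +kernel)
  · rintro (_ | _) <;> decide +kernel
  · rintro (_ | _) <;> (apply Equiv.ext; decide +kernel)
  · rintro (_ | _) <;> (apply Equiv.ext; decide +kernel)
  · rintro x (rfl | rfl)
    · rw [X_eq]; exact wv_mem _ ltr_mem _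
    · rw [Y_eq]; exact wv_mem _ ltr_mem _

end T12

/-! ### `M₂₂` -/

namespace T22

/-- an element of order 3 -/
def y0 : Equiv.Perm GolayPt where
  toFun := fn [0, 14, 1, 5, 11, 17, 10, 4, 13, 9, 22, 7, 12, 15, 2, 8, 16, 3, 20, 18, 19, 21, 6, 23]
  invFun := fn [0, 2, 14, 17, 7, 3, 22, 11, 15, 9, 6, 4, 12, 8, 1, 13, 16, 5, 19, 20, 18, 21, 10, 23]
  left_inv := by decide +kernel
  right_inv := by decide +kernel

/-- an element of order 3 -/
def y1 : Equiv.Perm GolayPt where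
  toFun := fn [0, 1, 2, 17, 11, 3, 13, 4, 19, 9, 15, 7, 21, 18, 14, 20, 12, 5, 6, 22, 10, 16, 8, 23]
  invFun := fn [0, 1, 2, 5, 7, 17, 18, 11, 22, 9, 20, 4, 16, 6, 14, 10, 21, 3, 13, 8, 15, 12, 19, 23]
  left_inv := by decide +kernel
  right_inv := by decide +kernel

/-- an element of order 3 -/
def y2 : Equiv.Perm GolayPt where
  toFun := fn [0, 14, 1, 3, 7, 5, 15, 11, 18, 9, 8, 4, 21, 20, 2, 19, 12, 17, 10, 6, 22, 16, 13, 23]
  invFun := fn [0, 2, 14, 3, 11, 5, 19, 4, 10, 9, 18, 7, 16, 22, 1, 6, 21, 17, 8, 15, 13, 12, 20, 23]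
  left_inv := by decide +kernel
  right_inv := by decide +kernel

/-- commutes with `y0` -/
def a0 : Equiv.Perm GolayPt where
  toFun := fn [0, 1, 2, 17, 19, 3, 10, 20, 11, 16, 22, 18, 12, 7, 14, 4, 21, 5, 8, 15, 13, 9, 6, 23]
  invFun := fn [0, 1, 2, 5, 15, 17, 22, 13, 18, 21, 6, 8, 12, 20, 14, 19, 9, 3, 11, 4, 7, 16, 10, 23]
  left_inv := by decide +kernel
  right_inv := by decide +kernel

/-- commutes with `y1` -/
def a1 : Equiv.Perm GolayPt where
  toFun := fn [0, 2, 9, 13, 11, 6, 8, 4, 5, 1, 20, 7, 12, 19, 14, 10, 16, 18, 22, 3, 15, 21, 17, 23]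
  invFun := fn [0, 9, 1, 19, 7, 8, 5, 11, 6, 2, 15, 4, 12, 3, 14, 20, 16, 22, 17, 13, 10, 21, 18, 23]
  left_inv := by decide +kernel
  right_inv := by decide +kernel

/-- commutes with `y2` -/
def a2 : Equiv.Perm GolayPt where
  toFun := fn [0, 8, 10, 9, 11, 17, 22, 4, 14, 3, 1, 7, 16, 19, 18, 13, 21, 5, 2, 20, 6, 12, 15, 23]
  invFun := fn [0, 10, 18, 9, 7, 17, 20, 11, 1, 3, 2, 4, 21, 15, 8, 22, 12, 5, 14, 13, 19, 16, 6, 23]
  left_inv := by decide +kernel
  right_inv := by decide +kernel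

theorem y0_mem : y0 ∈ Spor.M22 :=
  (SporadicA.MathieuRecog.mem_M22_iff _).2
    ⟨SporadicA.GolayWalk.mem_M24_of_table y0 [0, 14, 1, 5, 11, 17, 10, 4, 13, 9, 22, 7, 12, 15, 2, 8, 16, 3, 20, 18, 19, 21, 6, 23] rfl (by decide +kernel) (by decide +kernel), by decide +kernel,
      by decide +kernel⟩

theorem a0_mem : a0 ∈ Spor.M22 :=
  (SporadicA.MathieuRecog.mem_M22_iff _).2
    ⟨SporadicA.GolayWalk.mem_M24_of_table a0 [0, 1, 2, 17, 19, 3, 10, 20, 11, 16, 22, 18, 12, 7, 14, 4, 21, 5, 8, 15, 13, 9, 6, 23] rfl (by decide +kernel) (by decide +kernel), by decide +kernel,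
      by decide +kernel⟩

theorem y1_mem : y1 ∈ Spor.M22 :=
  (SporadicA.MathieuRecog.mem_M22_iff _).2
    ⟨SporadicA.GolayWalk.mem_M24_of_table y1 [0, 1, 2, 17, 11, 3, 13, 4, 19, 9, 15, 7, 21, 18, 14, 20, 12, 5, 6, 22, 10, 16, 8, 23] rfl (by decide +kernel) (by decide +kernel), by decide +kernel,
      by decide +kernel⟩

theorem a1_mem : a1 ∈ Spor.M22 :=
  (SporadicA.MathieuRecog.mem_M22_iff _).2
    ⟨SporadicA.GolayWalk.mem_M24_of_table a1 [0, 2, 9, 13, 11, 6, 8, 4, 5, 1, 20, 7, 12, 19, 14, 10, 16, 18, 22, 3, 15, 21, 17, 23] rfl (by decide +kernel) (by decide +kernel), by decide +kernel,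
      by decide +kernel⟩

theorem y2_mem : y2 ∈ Spor.M22 :=
  (SporadicA.MathieuRecog.mem_M22_iff _).2
    ⟨SporadicA.GolayWalk.mem_M24_of_table y2 [0, 14, 1, 3, 7, 5, 15, 11, 18, 9, 8, 4, 21, 20, 2, 19, 12, 17, 10, 6, 22, 16, 13, 23] rfl (by decide +kernel) (by decide +kernel), by decide +kernel,
      by decide +kernel⟩

theorem a2_mem : a2 ∈ Spor.M22 :=
  (SporadicA.MathieuRecog.mem_M22_iff _).2
    ⟨SporadicA.GolayWalk.mem_M24_of_table a2 [0, 8, 10, 9, 11, 17, 22, 4, 14, 3, 1, 7, 16, 19, 18, 13, 21, 5, 2, 20, 6, 12, 15, 23] rfl (by decide +kernel) (by decide +kernel), by decide +kernel,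
      by decide +kernel⟩

/-- the letters -/
def ltr : ℕ → Equiv.Perm GolayPt
  | 0 => a0
  | 1 => a1
  | 2 => a2
  | 3 => a0⁻¹
  | 4 => a1⁻¹
  | _ => a2⁻¹

/-- the elements of order 3 -/
def yy : Fin 3 → Equiv.Perm GolayPt := ![y0, y1, y2]

/-- the generators -/
def aa : Fin 3 → Equiv.Perm GolayPt := ![a0, a1, a2]

theorem ltr_mem (i : ℕ) : ltr i ∈ closure (Set.range aa) := by
  have h0 : a0 ∈ closure (Set.range aa) := subset_closure ⟨0, rfl⟩
  have h1 : a1 ∈ closure (Set.range aa) := subset_closure ⟨1, rfl⟩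
  have h2 : a2 ∈ closure (Set.range aa) := subset_closure ⟨2, rfl⟩
  match i with
  | 0 => exact h0
  | 1 => exact h1
  | 2 => exact h2
  | 3 => exact inv_mem h0
  | 4 => exact inv_mem h1
  | _ + 5 => exact inv_mem h2

theorem X_eq : H994.TwoGen.M22.X = wv ltr [1, 3, 2, 1, 0, 5, 1, 0, 1] := by
  apply Equiv.ext
  decide +kernel

theorem Y_eq : H994.TwoGen.M22.Y = wv ltr [2, 1, 5, 4] := by
  apply Equiv.ext
  decide +kernel

theorem noSP : NoSP 3 ↥Spor.M22 := by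
  have : Fact (Nat.Prime 3) := ⟨Nat.prime_three⟩
  have := Cfsg.Agent.SporadicA.MathieuRecog.simple_M22
  refine noSP_of_cert H994.TwoGen.M22.closure_eq yy aa 0 ?_ ?_ ?_ ?_ ?_ ?_ ?_
  · intro i
    fin_cases i
    · exact y0_mem
    · exact y1_mem
    · exact y2_mem
  · intro i
    fin_cases i
    · exact a0_mem
    · exact a1_mem
    · exact a2_mem
  · intro i
    fin_cases i <;> (apply Equiv.ext; decide +kernel)
  · intro i
    fin_cases i <;> decide +kernel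
  · intro i
    fin_cases i <;> (apply Equiv.ext; decide +kernel)
  · intro i
    fin_cases i <;> (apply Equiv.ext; decide +kernel)
  · rintro x (rfl | rfl)
    · rw [X_eq]; exact wv_mem _ ltr_mem _
    · rw [Y_eq]; exact wv_mem _ ltr_mem _

end T22

/-! ### `M₂₃` -/

theorem noSP_M23 : NoSP 3 ↥Spor.M23 := by
  have : Fact (Nat.Prime 3) := ⟨Nat.prime_three⟩
  intro H hH
  have hle : Spor.M22 ≤ Spor.M23 := inf_le_left
  let L : Subgroup ↥Spor.M23 := Spor.M22.subgroupOf Spor.M23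
  let e : ↥L ≃* ↥Spor.M22 := Subgroup.subgroupOfEquivOfLe hle
  have hL : NoSP 3 ↥L := NoSP.congr e T22.noSP
  have hcL : Nat.card L = 443520 := by
    rw [Nat.card_congr e.toEquiv, SporadicA.MathieuRecog.card_M22]
  have h1 : Nat.card L ∣ Nat.card H := card_dvd_of_noSP hH (by rw [hcL]; norm_num) hL
  rw [hcL] at h1
  refine contra (a := 2) (b := 0) hH h1 [(23, 1)] ?_ (by norm_num) ?_ ?_ (by decide +kernel)
  · intro q hq
    rw [List.mem_singleton] at hq
    subst hq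
    norm_num
  · rw [SporadicA.MathieuRecog.card_M23]
    norm_num
  · rw [SporadicA.MathieuRecog.card_M23]
    decide +kernel

/-! ### The rows -/

variable {G : Type*} [Group G]

theorem nosp_m12_3 (h : Cfsg.Spor.IsoM12 G) : NoSP 3 G := by
  obtain ⟨e⟩ := h
  have : Finite G := Finite.of_equiv _ e.symm.toEquiv
  have : Fact (Nat.Prime 3) := ⟨Nat.prime_three⟩
  exact NoSP.congr e T12.noSP

theorem nosp_m22_3 (h : Cfsg.Spor.IsoM22 G) : NoSP 3 G := by
  obtain ⟨e⟩ := h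
  have : Finite G := Finite.of_equiv _ e.symm.toEquiv
  have : Fact (Nat.Prime 3) := ⟨Nat.prime_three⟩
  exact NoSP.congr e T22.noSP

theorem nosp_m23_3 (h : Cfsg.Spor.IsoM23 G) : NoSP 3 G := by
  obtain ⟨e⟩ := h
  have : Finite G := Finite.of_equiv _ e.symm.toEquiv
  have : Fact (Nat.Prime 3) := ⟨Nat.prime_three⟩
  exact NoSP.congr e noSP_M23

end Cfsg.Agent.H809.StrP.Mathieu
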